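import Groth.Agent.Lib.RelAmple18.Basic
import Groth.Agent.Lib.ModM1.FT
import Groth.Agent.Lib.ModM1.Coh
import Groth.Prelude.Def_Curv2

/-!
Sections of large twists by an ample module.
-/

universe u

open CategoryTheory Limits AlgebraicGeometry TopologicalSpace Opposite TensorProduct

set_option backward.isDefEq.respectTransparency false

namespace Groth.Agent.RA

open Groth.Agent.M2 (tsec IsGenerator res stalkEquiv)
open Groth.Agent.Amp

variable {X : Scheme.{u}} {M N L E : X.Modules}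

/-- On an affine locus every twist has extensions generating near given finitely many points. -/
theorem exists_gen_of_le [CompactSpace X] [QuasiSeparatedSpace X] (hM : PicF.IsInvertible M)
    (s : Coh.structureModule X ⟶ M) (hA : IsAffineOpen (CohB1.genLocus M s)) (hE : PicF.IsInvertible E)
    {Z : Set X} (hZ : Z.Finite) (hZG : Z ⊆ CohB1.genLocus M s) :
    ∃ (W : X.Opens) (q₀ : ℕ), Z ⊆ W ∧ ∀ q, q₀ ≤ q →
      ∃ t : Coh.structureModule X ⟶ CohB1.tensorMod E (CohB1.tensorPow M q),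
        W ≤ CohB1.genLocus _ t := by
  let G := CohB1.genLocus M s
  haveI : IsAffine (G : Scheme.{u}) := hA
  obtain ⟨s', -, hs'Z, -⟩ := exists_affine_section_finite (X := (G : Scheme.{u}))
    (M2.isInvertible_restrict hE G.ι) (Z := G.ι ⁻¹' Z)
    (hZ.preimage G.ι.isOpenEmbedding.injective.injOn) (W := ⊤) (fun _ _ => trivial)
  obtain ⟨t, ht⟩ := exists_sec_of_restrict hE G s'
  haveI := M2.isQCoh_of_isFinLocFree (M2.isFinLocFree_of_isInvertible hE)
  obtain ⟨q₀, hq⟩ := exists_extend_genLocus hM s E t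
  refine ⟨G.ι ''ᵁ CohB1.genLocus _ s', q₀, fun z hz => ⟨⟨z, hZG hz⟩, hs'Z hz, rfl⟩, fun q hq' => ?_⟩
  obtain ⟨t', ht'⟩ := hq q hq'
  refine ⟨M1.secHom t', ?_⟩
  rintro _ ⟨y, hy, rfl⟩
  change y.1 ∈ CohB1.genLocus _ _
  rw [mem_genLocus_iff (M2.isInvertible_tensor hE (isInvertible_tensorPow hM q)), gval_secHom,
    ← gm_res (le_top : G ≤ ⊤) y.2, ht', gen_tsec_iff hE (isInvertible_tensorPow hM q)]
  refine ⟨(ht y).mp hy, gen_pw hM y.2 _ q ?_⟩
  rw [gm_res]
  exact (mem_genLocus_iff hM s).mp y.2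

/-- Large twists of an invertible module have sections generating near finitely many given points. -/
theorem exists_gen_nhd_finite (h : CohB1.IsAmple L) (hE : PicF.IsInvertible E) {Z : Set X} (hZ : Z.Finite) :
    ∃ (W : X.Opens) (N₀ : ℕ), Z ⊆ W ∧ ∀ N, N₀ ≤ N →
      ∃ t : Coh.structureModule X ⟶ CohB1.tensorMod E (CohB1.tensorPow L N), W ≤ CohB1.genLocus _ t := by
  have hL := h.1
  haveI := h.2.1
  haveI := quasiSeparatedSpace_of_isAmple h
  obtain ⟨n, G, ⟨s, rfl⟩, hZG, -, hA⟩ := exists_affine_hasSec_finite h hZ (U := ⊤) (fun _ _ => trivial)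
  choose W q₀ hW hq using fun r : Fin (n + 1) => exists_gen_of_le (isInvertible_tensorPow hL (n + 1)) s hA
    (M2.isInvertible_tensor hE (isInvertible_tensorPow hL r.1)) hZ hZG
  refine ⟨Finset.univ.inf W, (n + 1) * (Finset.univ.sup q₀ + 1), ?_, fun N hN => ?_⟩
  · intro z hz
    have : ∀ T : Finset (Fin (n + 1)), z ∈ T.inf W := by
      intro T
      induction T using Finset.cons_induction with
      | empty => simp
      | cons a T _ ih => rw [Finset.inf_cons]; exact ⟨hW a hz, ih⟩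
    exact this _
  · let r : Fin (n + 1) := ⟨N % (n + 1), Nat.mod_lt _ n.succ_pos⟩
    have hq' : q₀ r ≤ N / (n + 1) := by
      refine le_trans ((Finset.le_sup (f := q₀) (Finset.mem_univ r)).trans (Nat.le_succ _)) ?_
      rw [Nat.le_div_iff_mul_le n.succ_pos]
      exact le_trans (le_of_eq (Nat.mul_comm _ _)) hN
    obtain ⟨t, ht⟩ := hq r _ hq'
    have e : r.1 + (n + 1) * (N / (n + 1)) = N := Nat.mod_add_div N (n + 1)
    let i : CohB1.tensorMod (CohB1.tensorMod E (CohB1.tensorPow L r.1))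
        (CohB1.tensorPow (CohB1.tensorPow L (n + 1)) (N / (n + 1))) ≅ CohB1.tensorMod E (CohB1.tensorPow L N) :=
      M2.tensorAssoc _ _ _ ≪≫ M2.tensorIso (Iso.refl E)
        (M2.tensorIso (Iso.refl _) (M2.tensorPowPow L (n + 1) _) ≪≫ (M2.tensorPowAdd L _ _).symm ≪≫ eqToIso (by rw [e]))
    refine ⟨t ≫ i.hom, ?_⟩
    rw [genLocus_comp_iso]
    exact (Finset.inf_le (Finset.mem_univ r)).trans ht

/-- Large twists of an invertible module are generated at every point. -/
theorem exists_gen_all (h : CohB1.IsAmple L) (hE : PicF.IsInvertible E) :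
    ∃ N₀ : ℕ, ∀ N, N₀ ≤ N → ∀ x : X, ∃ t : Coh.structureModule X ⟶ CohB1.tensorMod E (CohB1.tensorPow L N),
      x ∈ CohB1.genLocus _ t := by
  haveI := h.2.1
  choose W N₀ hW hN using fun x : X => exists_gen_nhd_finite h hE (Set.finite_singleton x)
  obtain ⟨T, hT⟩ := isCompact_univ.elim_finite_subcover (fun x => (W x : Set X)) (fun x => (W x).isOpen)
    (fun x _ => Set.mem_iUnion.mpr ⟨x, hW x rfl⟩)
  refine ⟨T.sup N₀, fun N hN' x => ?_⟩
  obtain ⟨y, hy, hxy⟩ := Set.mem_iUnion₂.mp (hT (Set.mem_univ x))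
  obtain ⟨t, ht⟩ := hN y N ((Finset.le_sup hy).trans hN')
  exact ⟨t, ht hxy⟩

/-- Large powers are generated at every point. -/
theorem exists_gen_pow (h : CohB1.IsAmple L) :
    ∃ N₀ : ℕ, ∀ N, N₀ ≤ N → ∀ x : X, ∃ t : Coh.structureModule X ⟶ CohB1.tensorPow L N,
      x ∈ CohB1.genLocus _ t := by
  obtain ⟨N₀, hN⟩ := exists_gen_all h (PicLoc.isInvertible_structureModule X)
  refine ⟨N₀, fun N hN' x => ?_⟩
  obtain ⟨t, ht⟩ := hN N hN' x
  exact ⟨t ≫ (M2.tensorLUnit _).hom, by rwa [genLocus_comp_iso]⟩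

section Span

/-- Global generation from the stalks. -/
theorem isGloballyGenerated_of_span (F : X.Modules)
    (h : ∀ x : X, Submodule.span (X.presheaf.stalk x)
      (Set.range fun t : Γ(F, ⊤) => gm F x (U := ⊤) trivial t) = ⊤) :
    Curv2.IsGloballyGenerated F := by
  refine ⟨Γ(F, ⊤), M1.freeHom (fun t => t), (M1.epi_iff_stalk _).mpr fun x => ?_⟩
  let φ := M2.stMap ((M2.pmF X).map (M1.freeHom (fun t : Γ(F, ⊤) => t))) x
  have hr : LinearMap.range φ = ⊤ := by
    refine top_le_iff.mp ((h x).symm.le.trans (Submodule.span_le.mpr ?_))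
    rintro _ ⟨t, rfl⟩
    refine ⟨gm _ x (U := ⊤) trivial ((M1.ιF t).app ⊤ (M1.one ⊤)), ?_⟩
    refine (M2.stMap_sg ((M2.pmF X).map (M1.freeHom fun t : Γ(F, ⊤) => t)) (U := ⊤) (x := x) trivial _).trans ?_
    exact congrArg (gm F x (U := ⊤) trivial) (M1.freeSec_freeHom (fun t : Γ(F, ⊤) => t) t)
  exact LinearMap.range_eq_top.mp hr

/-- An invertible module generated at each point is globally generated. -/
theorem isGloballyGenerated_of_gen (hM : PicF.IsInvertible M)
    (h : ∀ x : X, ∃ t : Coh.structureModule X ⟶ M, x ∈ CohB1.genLocus M t) :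
    Curv2.IsGloballyGenerated M := by
  refine isGloballyGenerated_of_span M fun x => top_le_iff.mp fun a _ => ?_
  obtain ⟨t, ht⟩ := h x
  obtain ⟨r, rfl⟩ := ((mem_genLocus_iff hM t).mp ht).2 a
  exact Submodule.smul_mem _ r (Submodule.subset_span ⟨gval t, rfl⟩)

theorem span_stalk_tensor {F : X.Modules} (x : X) {S : Set (F.presheaf.stalk x : Type u)}
    (hS : Submodule.span (X.presheaf.stalk x) S = ⊤) {b : (M.presheaf.stalk x : Type u)} (hb : Gen b) :
    Submodule.span (X.presheaf.stalk x) ((fun a => (stalkEquiv F M x).symm (a ⊗ₜ b)) '' S) = ⊤ := by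
  let φ : (F.presheaf.stalk x : Type u) →ₗ[X.presheaf.stalk x] ((CohB1.tensorMod F M).presheaf.stalk x : Type u) :=
    (stalkEquiv F M x).symm.toLinearMap ∘ₗ (TensorProduct.mk (X.presheaf.stalk x) _ _).flip b
  have hφ : Function.Surjective φ := fun z => by
    obtain ⟨z, rfl⟩ := (stalkEquiv F M x).symm.surjective z
    induction z using TensorProduct.induction_on with
    | zero => exact ⟨0, by rw [map_zero, map_zero]⟩
    | tmul a c =>
      obtain ⟨r, rfl⟩ := hb.2 c
      exact ⟨r • a, congrArg (stalkEquiv F M x).symm (TensorProduct.smul_tmul r a b)⟩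
    | add u v hu hv =>
      obtain ⟨a, ha⟩ := hu
      obtain ⟨c, hc⟩ := hv
      exact ⟨a + c, by rw [map_add, ha, hc, map_add]⟩
  rw [show (fun a => (stalkEquiv F M x).symm (a ⊗ₜ b)) = ⇑φ from rfl, Submodule.span_image, hS,
    Submodule.map_top, LinearMap.range_eq_top.mpr hφ]

theorem span_stalk_map_iso {F F' : X.Modules} (e : F ≅ F') (x : X) {S : Set Γ(F, ⊤)}
    (hS : Submodule.span (X.presheaf.stalk x) ((fun t => gm F x (U := ⊤) trivial t) '' S) = ⊤) :
    Submodule.span (X.presheaf.stalk x) (Set.range fun t : Γ(F', ⊤) => gm F' x (U := ⊤) trivial t) = ⊤ := by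
  let φ := M2.stMap ((M2.pmF X).map e.hom) x
  have hb : Function.Bijective φ := (M1.isIso_iff_stalk e.hom).mp inferInstance x
  refine top_le_iff.mp ?_
  rw [← LinearMap.range_eq_top.mpr hb.2, ← Submodule.map_top, ← hS, Submodule.map_span]
  refine Submodule.span_mono ?_
  rintro _ ⟨_, ⟨t, -, rfl⟩, rfl⟩
  exact ⟨e.hom.app ⊤ t, (M2.stMap_sg ((M2.pmF X).map e.hom) (U := ⊤) (x := x) trivial t).symm⟩

/-- Large twists of a quasi-coherent module of finite type are globally generated. -/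
theorem exists_globallyGenerated (h : CohB1.IsAmple L) (F : X.Modules) (hF : Coh.IsQCoh F) (hFT : CohB1.IsFT F) :
    ∃ n₀ : ℕ, ∀ n, n₀ ≤ n → Curv2.IsGloballyGenerated (CohB1.tensorMod F (CohB1.tensorPow L n)) := by
  classical
  have hL := h.1
  haveI := h.2.1
  haveI := quasiSeparatedSpace_of_isAmple h
  haveI := hF
  obtain ⟨-, -, hc⟩ := isAmple_iff.mp h
  choose d G hG hxG hA using hc
  choose s hs using hG
  have key : ∀ y : X, ∃ q₀ : ℕ, ∀ q, q₀ ≤ q → ∀ x ∈ G y, Submodule.span (X.presheaf.stalk x)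
      ((fun t => gm (CohB1.tensorMod F (CohB1.tensorPow (CohB1.tensorPow L (d y + 1)) q)) x (U := ⊤) trivial t) ''
        (Set.univ : Set Γ(CohB1.tensorMod F (CohB1.tensorPow (CohB1.tensorPow L (d y + 1)) q), ⊤))) = ⊤ := fun y => by
    let M := CohB1.tensorPow L (d y + 1)
    have hM : PicF.IsInvertible M := isInvertible_tensorPow hL _
    obtain ⟨T, hT⟩ := (M1.finite_sections hF hFT ((hs y).symm ▸ hA y : IsAffineOpen (CohB1.genLocus M (s y)))).fg_top
    choose q hq using fun t : T => exists_extend_genLocus hM (s y) F t.1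
    refine ⟨Finset.univ.sup q, fun n hn x hx => top_le_iff.mp ?_⟩
    rw [← hs y] at hx
    let b := gm (CohB1.tensorPow M n) x hx (pw (res M le_top (gval (s y))) n)
    have hb : Gen b := gen_pw hM hx _ n (by rw [gm_res]; exact (mem_genLocus_iff hM _).mp hx)
    let S := (fun m => gm F x hx m) '' (T : Set Γ(F, CohB1.genLocus M (s y)))
    have hS : Submodule.span (X.presheaf.stalk x) S = ⊤ := by
      refine top_le_iff.mp fun a _ => ?_
      obtain ⟨r, m, hr, ha⟩ := M1.exists_germ_smul_eq F ((hs y).symm ▸ hA y) hx a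
      have hm : gm F x hx m ∈ Submodule.span (X.presheaf.stalk x) S := by
        clear ha
        have hm : m ∈ Submodule.span Γ(X, CohB1.genLocus M (s y)) (T : Set Γ(F, CohB1.genLocus M (s y))) := by
          rw [hT]; trivial
        induction hm using Submodule.span_induction with
        | mem z hz => exact Submodule.subset_span ⟨z, hz, rfl⟩
        | zero => rw [show gm F x hx (0 : Γ(F, CohB1.genLocus M (s y))) = 0 from map_zero _]; exact Submodule.zero_mem _
        | add u v _ _ hu hv =>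
          rw [show gm F x hx (u + v) = gm F x hx u + gm F x hx v from map_add _ _ _]
          exact Submodule.add_mem _ hu hv
        | smul c u _ hu => rw [gm_smul]; exact Submodule.smul_mem _ _ hu
      obtain ⟨u, hu⟩ := hr
      have ha' : a = (↑u⁻¹ : X.presheaf.stalk x) • gm F x hx m := by
        rw [show gm F x hx m = _ from ha.symm, ← hu, ← mul_smul, Units.inv_mul, one_smul]
      rw [ha']
      exact Submodule.smul_mem _ _ hm
    refine (span_stalk_tensor x hS hb).symm.le.trans (Submodule.span_mono ?_)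
    rintro _ ⟨_, ⟨m, hm, rfl⟩, rfl⟩
    obtain ⟨t', ht'⟩ := hq ⟨m, hm⟩ n ((Finset.le_sup (f := q) (Finset.mem_univ (⟨m, hm⟩ : T))).trans hn)
    refine ⟨t', trivial, ?_⟩
    change gm _ x (U := ⊤) trivial t' = _
    rw [← gm_res (le_top : CohB1.genLocus M (s y) ≤ ⊤) hx, ht', LinearEquiv.eq_symm_apply]
    exact M2.stalkEquiv_tsec F (CohB1.tensorPow M n) x hx _ _
  choose q₀ hq₀ using key
  obtain ⟨N₀, hN₀⟩ := exists_gen_pow h
  obtain ⟨T, hT⟩ := isCompact_univ.elim_finite_subcover (fun x => (G x : Set X)) (fun x => (G x).isOpen)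
    (fun x _ => Set.mem_iUnion.mpr ⟨x, hxG x⟩)
  refine ⟨N₀ + T.sup (fun y => (d y + 1) * q₀ y), fun n hn => isGloballyGenerated_of_span _ fun x => ?_⟩
  obtain ⟨y, hy, hxy⟩ := Set.mem_iUnion₂.mp (hT (Set.mem_univ x))
  have hy' := Finset.le_sup (f := fun y => (d y + 1) * q₀ y) hy
  obtain ⟨e, he⟩ := Nat.exists_eq_add_of_le (show (d y + 1) * q₀ y ≤ n by omega)
  obtain ⟨w, hw⟩ := hN₀ e (by omega) x
  let P := CohB1.tensorMod F (CohB1.tensorPow (CohB1.tensorPow L (d y + 1)) (q₀ y))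
  let i : CohB1.tensorMod P (CohB1.tensorPow L e) ≅ CohB1.tensorMod F (CohB1.tensorPow L n) :=
    M2.tensorAssoc _ _ _ ≪≫ M2.tensorIso (Iso.refl F)
      (M2.tensorIso (M2.tensorPowPow L (d y + 1) _) (Iso.refl _) ≪≫ (M2.tensorPowAdd L _ _).symm ≪≫ eqToIso (by rw [he]))
  refine span_stalk_map_iso i x (S := (fun t => tsec P (CohB1.tensorPow L e) t (gval w)) '' Set.univ) ?_
  refine top_le_iff.mp ((span_stalk_tensor x (hq₀ y _ le_rfl x hxy)
    ((mem_genLocus_iff (isInvertible_tensorPow hL e) w).mp hw)).symm.le.trans (Submodule.span_mono ?_))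
  rintro _ ⟨_, ⟨t, -, rfl⟩, rfl⟩
  refine ⟨_, ⟨t, trivial, rfl⟩, ?_⟩
  refine (LinearEquiv.eq_symm_apply _).mpr ?_
  exact M2.stalkEquiv_tsec P (CohB1.tensorPow L e) x (U := ⊤) trivial t (gval w)

end Span

end Groth.Agent.RA
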