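import Groth.Agent.Lib.RelAmple18.Basic
import Groth.Prelude.Def_Mor2
import Mathlib.AlgebraicGeometry.Morphisms.Separated

/-!
Base change, composition and tensor operations on relatively ample modules.
-/

universe u

open CategoryTheory Limits AlgebraicGeometry TopologicalSpace Opposite TensorProduct

set_option backward.isDefEq.respectTransparency false

namespace Groth.Agent.RA

open Groth.Agent.M2 (IsGenerator res)
open Groth.Agent.Amp

variable {X Y Z S : Scheme.{u}} {M L L' : X.Modules}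

theorem ampleOn_pullback_iff (g : Y ⟶ X) (W : X.Opens) :
    AmpleOn ((Scheme.Modules.pullback g).obj L) (g ⁻¹ᵁ W) ↔
      CohB1.IsAmple ((Scheme.Modules.pullback (g ∣_ W)).obj (L.restrict W.ι)) :=
  isAmple_iso_iff (M2.pullbackRestrictIso g L W)

theorem ampleOn_tensorPow_iff {W : X.Opens} (hL : PicF.IsInvertible L) {n : ℕ} (hn : 0 < n) :
    AmpleOn (CohB1.tensorPow L n) W ↔ AmpleOn L W := by
  rw [AmpleOn, isAmple_iso_iff (M2.restrictTensorPowIso W.ι L n),
    isAmple_tensorPow_iff (M2.isInvertible_restrict hL W.ι) hn]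

/-- A relatively ample module is invertible. -/
theorem isInvertible_of_isRelAmple (f : X ⟶ S) (h : RelAmple.IsRelAmple f L) : PicF.IsInvertible L := by
  refine isInvertible_of_restrict (fun V : S.affineOpens => f ⁻¹ᵁ V.1) (fun x _ => ?_) fun V => (h.2 V).1
  obtain ⟨V, hV, hxV, -⟩ := exists_isAffineOpen_mem_and_subset (U := ⊤) (x := f x) trivial
  exact Opens.mem_iSup.mpr ⟨⟨V, hV⟩, hxV⟩

theorem ampleOn_tensor {W : X.Opens} (h : AmpleOn L W) (h' : AmpleOn L' W) :
    AmpleOn (CohB1.tensorMod L L') W := by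
  rw [AmpleOn, isAmple_iso_iff (M2.restrictTensorIso W.ι L L')]
  refine isAmple_tensor h'.1 h fun x => ?_
  obtain ⟨n, G, hG, hx, -⟩ := (isAmple_iff.mp h').2.2 x
  exact ⟨n, G, hG, hx⟩

/-- Base change along any morphism. -/
theorem isRelAmple_of_isPullback {T : Scheme.{u}} {f : X ⟶ S} [QuasiCompact f] {g : T ⟶ S} {p : Y ⟶ X}
    {q : Y ⟶ T} (H : IsPullback p q f g) (hL : RelAmple.IsRelAmple f L) :
    RelAmple.IsRelAmple q ((Scheme.Modules.pullback p).obj L) := by
  haveI : QuasiCompact q := MorphismProperty.of_isPullback H inferInstance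
  refine isRelAmple_of_local q fun t => ?_
  obtain ⟨U, hU, htU, -⟩ := exists_isAffineOpen_mem_and_subset (U := ⊤) (x := g t) trivial
  obtain ⟨V, hV, htV, hVU⟩ := exists_isAffineOpen_mem_and_subset (U := g ⁻¹ᵁ U) htU
  have hVU : V ≤ g ⁻¹ᵁ U := hVU
  refine ⟨V, hV, htV, ?_⟩
  have hle : q ⁻¹ᵁ V ≤ p ⁻¹ᵁ (f ⁻¹ᵁ U) := by
    rw [← Scheme.Hom.comp_preimage, H.w, Scheme.Hom.comp_preimage]
    exact q.preimage_mono hVU
  have HH := Scheme.Hom.isPullback_resLE H hVU (le_refl (f ⁻¹ᵁ U)) (inf_eq_right.mpr hle).symm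
  haveI : IsAffine (U : Scheme.{u}) := hU
  haveI : IsAffine (V : Scheme.{u}) := hV
  haveI : IsAffineHom (p.resLE (f ⁻¹ᵁ U) (q ⁻¹ᵁ V) hle) :=
    MorphismProperty.of_isPullback (P := @IsAffineHom) HH.flip inferInstance
  have := isAmple_pullback_of_isAffineHom (p.resLE (f ⁻¹ᵁ U) (q ⁻¹ᵁ V) hle)
    ((isAmple_restrict_iff_pullback _).mp (hL.2 ⟨U, hU⟩))
  rw [isAmple_pullback_comp_iff, isAmple_pullback_congr (Scheme.Hom.resLE_comp_ι p hle)] at this
  rw [AmpleOn, isAmple_restrict_iff_pullback, isAmple_pullback_comp_iff]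
  exact this

/-- Ampleness relative to a composition gives ampleness relative to the first map. -/
theorem isRelAmple_of_comp (f : X ⟶ Y) (g : Y ⟶ Z) [QuasiCompact f] (hL : RelAmple.IsRelAmple (f ≫ g) L) :
    RelAmple.IsRelAmple f L := by
  refine isRelAmple_of_local f fun y => ?_
  obtain ⟨W, hW, hyW, -⟩ := exists_isAffineOpen_mem_and_subset (U := ⊤) (x := g y) trivial
  obtain ⟨V, hV, hyV, hVW⟩ := exists_isAffineOpen_mem_and_subset (U := g ⁻¹ᵁ W) hyW
  have h : AmpleOn L ((f ≫ g) ⁻¹ᵁ W) := hL.2 ⟨W, hW⟩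
  exact ⟨V, hV, hyV, h.mono (fun x hx => hVW hx) (isCompact_preimage f hV)⟩

/-- Pullback along an inducing quasi-compact map. -/
theorem isRelAmple_pullback_of_isInducing (f : X ⟶ S) [QuasiCompact f] (j : Y ⟶ X) [QuasiCompact j]
    (hj : Topology.IsInducing j) (hL : RelAmple.IsRelAmple f L) :
    RelAmple.IsRelAmple (j ≫ f) ((Scheme.Modules.pullback j).obj L) := by
  refine (isRelAmple_def _).mpr fun V hV => (ampleOn_pullback_iff j (f ⁻¹ᵁ V)).mpr ?_
  haveI : CompactSpace (j ⁻¹ᵁ (f ⁻¹ᵁ V) : Scheme.{u}) :=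
    compactSpace_of_isCompact (isCompact_preimage (j ≫ f) hV)
  refine isAmple_pullback_of_isInducing _ ?_ (hL.2 ⟨V, hV⟩)
  rw [morphismRestrict_base]
  exact hj.restrictPreimage (f ⁻¹ᵁ V : Set X)

/-- Ampleness from a cover by quasi-affine loci. -/
theorem isAmple_of_quasiAffine_loci [CompactSpace X] (hL : PicF.IsInvertible L)
    (h : ∀ x : X, ∃ (n : ℕ) (G : X.Opens), HasSec L (n + 1) G ∧ x ∈ G ∧ Scheme.IsQuasiAffine (G : Scheme.{u})) :
    CohB1.IsAmple L := by
  choose n G hG hxG hA using h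
  haveI : QuasiSeparatedSpace X := quasiSeparatedSpace_of_cover G
    (fun x _ => Opens.mem_iSup.mpr ⟨x, hxG x⟩) (fun x => by haveI := hA x; infer_instance)
    fun x U z hU _ => by
      rw [inf_comm]
      exact (isAffineOpen_inf_hasSec hL (hG z) hU).isCompact
  refine isAmple_iff.mpr ⟨hL, inferInstance, fun x => ?_⟩
  haveI := hA x
  obtain ⟨_, ⟨_, ⟨a, ha, rfl⟩, rfl⟩, hxa, -⟩ :=
    (Scheme.IsQuasiAffine.isBasis_basicOpen (G x : Scheme.{u})).exists_subset_of_mem_open
      (show (⟨x, hxG x⟩ : G x) ∈ Set.univ from trivial) isOpen_univ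
  let b : Γ(X, G x) := (G x).topIso.hom a
  have hb : (G x).ι ''ᵁ (G x : Scheme.{u}).basicOpen a = X.basicOpen b := by
    rw [Scheme.image_basicOpen, Scheme.Opens.ι_appIso, Iso.refl_inv]
    exact (Scheme.basicOpen_res_eq X _ _).symm
  obtain ⟨s, hs⟩ := hG x
  obtain ⟨b', hb'⟩ : ∃ b' : Γ(X, CohB1.genLocus _ s), X.basicOpen b' = X.basicOpen b := by
    rw [hs]; exact ⟨b, rfl⟩
  obtain ⟨N, hN⟩ := exists_hasSec_basicOpen (isInvertible_tensorPow hL _) s b'
  refine ⟨(n x + 1) * (N + 1) - 1, X.basicOpen b', hN.of_tensorPow.of_eq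
    (Nat.sub_add_cancel (Nat.mul_pos (Nat.succ_pos _) N.succ_pos)).symm, ?_, ?_⟩
  · rw [hb', ← hb]; exact ⟨⟨x, hxG x⟩, hxa, rfl⟩
  · rw [hb', ← hb]; exact ha.image_of_isOpenImmersion _

/-- Pullback along a morphism under which preimages of affine opens are quasi-affine. -/
theorem isAmple_pullback_of_quasiAffine (g : Y ⟶ X) [QuasiCompact g]
    (hg : ∀ V : X.Opens, IsAffineOpen V → Scheme.IsQuasiAffine (g ⁻¹ᵁ V : Scheme.{u}))
    (h : CohB1.IsAmple L) : CohB1.IsAmple ((Scheme.Modules.pullback g).obj L) := by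
  obtain ⟨hL, hX, hc⟩ := isAmple_iff.mp h
  haveI := hX
  haveI : CompactSpace Y := QuasiCompact.compactSpace_of_compactSpace g
  refine isAmple_of_quasiAffine_loci (PicLoc.isInvertible_pullback g hL) fun y => ?_
  obtain ⟨n, G, hG, hy, hA⟩ := hc (g y)
  exact ⟨n, g ⁻¹ᵁ G, hG.pullback g hL, hy, hg _ hA⟩

/-- Quasi-affine pullback, relatively. -/
theorem isRelAmple_pullback_of_isQuasiAffine (f : X ⟶ S) [QuasiCompact f] (g : Y ⟶ X)
    (hg : Mor2.IsQuasiAffine g) (hL : RelAmple.IsRelAmple f L) :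
    RelAmple.IsRelAmple (g ≫ f) ((Scheme.Modules.pullback g).obj L) := by
  haveI := hg.1
  refine (isRelAmple_def _).mpr fun V hV => (ampleOn_pullback_iff g (f ⁻¹ᵁ V)).mpr ?_
  refine isAmple_pullback_of_quasiAffine _ (fun W hW => ?_) (hL.2 ⟨V, hV⟩)
  haveI := hg.2 _ (hW.image_of_isOpenImmersion (f ⁻¹ᵁ V).ι)
  let A := (g ∣_ (f ⁻¹ᵁ V)) ⁻¹ᵁ W
  let e := (g ⁻¹ᵁ (f ⁻¹ᵁ V)).ι.isoImage A ≪≫ Y.isoOfEq (image_morphismRestrict_preimage g (f ⁻¹ᵁ V) W)
  exact Scheme.IsQuasiAffine.of_isAffineHom e.hom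

theorem structureModule_restrict_iso (W : X.Opens) :
    Nonempty ((Coh.structureModule X).restrict W.ι ≅ Coh.structureModule (W : Scheme.{u})) :=
  ⟨Scheme.Modules.restrictUnitIso _⟩

/-- Powers of the structure sheaf. -/
theorem tensorPow_structureModule_iso (X : Scheme.{u}) :
    ∀ n, Nonempty (CohB1.tensorPow (Coh.structureModule X) n ≅ Coh.structureModule X)
  | 0 => ⟨Iso.refl _⟩
  | n + 1 => by
    obtain ⟨e⟩ := tensorPow_structureModule_iso X n
    exact ⟨M2.tensorIso e (Iso.refl _) ≪≫ M2.tensorLUnit _⟩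

/-- The locus of a global function. -/
theorem genLocus_structureModule (s : Coh.structureModule X ⟶ Coh.structureModule X) :
    CohB1.genLocus (Coh.structureModule X) s = X.basicOpen (show Γ(X, ⊤) from gval s) :=
  genLocus_eq_of_forall (PicLoc.isInvertible_structureModule X) s _ fun x => gen_smul_one_iff (U := ⊤) (x := x) trivial _

/-- Quasi-affineness as ampleness of the structure sheaf. -/
theorem isQuasiAffine_iff_isAmple : X.IsQuasiAffine ↔ CohB1.IsAmple (Coh.structureModule X) := by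
  constructor
  · intro h
    exact isAmple_of_isQuasiAffine (PicLoc.isInvertible_structureModule X)
  · rintro ⟨-, hX, hc⟩
    haveI := hX
    refine Scheme.IsQuasiAffine.of_forall_exists_mem_basicOpen X fun x => ?_
    obtain ⟨n, s, hx, hA⟩ := hc x
    obtain ⟨e⟩ := tensorPow_structureModule_iso X (n + 1)
    rw [← genLocus_comp_iso e, genLocus_structureModule] at hx hA
    exact ⟨_, hA, hx⟩

/-- The separatedness of morphisms with a relatively ample module. -/
theorem isSeparated_of_isRelAmple (f : X ⟶ S) (hL : RelAmple.IsRelAmple f L) : IsSeparated f := by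
  rw [IsZariskiLocalAtTarget.iff_of_iSup_eq_top (P := @IsSeparated) (fun V : S.affineOpens => V.1)
    (iSup_affineOpens_eq_top S)]
  intro V
  obtain ⟨hL', hX, hc⟩ := isAmple_iff.mp (hL.2 V)
  haveI : IsAffine (V.1 : Scheme.{u}) := V.2
  haveI := isSeparated_of_cover hL' hc
  infer_instance

end Groth.Agent.RA
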