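import Groth.Agent.Lib.Ample18.Avoid
import Groth.Prelude.Def_LCI2
import Mathlib.AlgebraicGeometry.Morphisms.QuasiCompact

/-!
Ampleness on opens and gluing over basic opens of global functions.
-/

universe u

open CategoryTheory Limits AlgebraicGeometry TopologicalSpace Opposite TensorProduct

set_option backward.isDefEq.respectTransparency false

namespace Groth.Agent.RA

open Groth.Agent.M2 (IsGenerator res)
open Groth.Agent.Amp

variable {X Y Z : Scheme.{u}} {M L L' : X.Modules}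

/-- Ampleness of the restriction to an open. -/
abbrev AmpleOn (L : X.Modules) (W : X.Opens) : Prop := CohB1.IsAmple (L.restrict W.ι)

theorem isAmple_iso_iff (e : L ≅ L') : CohB1.IsAmple L ↔ CohB1.IsAmple L' :=
  ⟨isAmple_of_iso e, isAmple_of_iso e.symm⟩

theorem isAmple_restrict_iff_pullback (j : Y ⟶ X) [IsOpenImmersion j] :
    CohB1.IsAmple (L.restrict j) ↔ CohB1.IsAmple ((Scheme.Modules.pullback j).obj L) :=
  isAmple_iso_iff ((Scheme.Modules.restrictFunctorIsoPullback j).app L)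

theorem isAmple_pullback_comp_iff (a : Z ⟶ Y) (b : Y ⟶ X) :
    CohB1.IsAmple ((Scheme.Modules.pullback a).obj ((Scheme.Modules.pullback b).obj L)) ↔
      CohB1.IsAmple ((Scheme.Modules.pullback (a ≫ b)).obj L) :=
  isAmple_iso_iff ((Scheme.Modules.pullbackComp a b).app L)

theorem isAmple_pullback_congr {a b : Y ⟶ X} (h : a = b) :
    CohB1.IsAmple ((Scheme.Modules.pullback a).obj L) ↔ CohB1.IsAmple ((Scheme.Modules.pullback b).obj L) :=
  isAmple_iso_iff ((Scheme.Modules.pullbackCongr h).app L)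

theorem isAmple_pullback_iso_iff (e : Y ⟶ X) [IsIso e] :
    CohB1.IsAmple ((Scheme.Modules.pullback e).obj L) ↔ CohB1.IsAmple L := by
  refine ⟨fun h => ?_, isAmple_pullback_of_isAffineHom e⟩
  have := isAmple_pullback_of_isAffineHom (inv e) h
  rw [isAmple_pullback_comp_iff, isAmple_pullback_congr (IsIso.inv_hom_id e)] at this
  exact isAmple_of_iso ((Scheme.Modules.pullbackId X).app L) this

theorem isAmple_iff_ampleOn_top : CohB1.IsAmple L ↔ AmpleOn L ⊤ := by
  haveI : IsIso (⊤ : X.Opens).ι := inferInstanceAs (IsIso X.topIso.hom)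
  rw [AmpleOn, isAmple_restrict_iff_pullback, isAmple_pullback_iso_iff]

theorem compactSpace_of_isCompact {W : X.Opens} (h : IsCompact (W : Set X)) : CompactSpace (W : Scheme.{u}) :=
  isCompact_iff_compactSpace.mp h

theorem AmpleOn.isCompact {W : X.Opens} (h : AmpleOn L W) : IsCompact (W : Set X) :=
  isCompact_iff_compactSpace.mpr h.2.1

theorem AmpleOn.mono {W W' : X.Opens} (h : AmpleOn L W) (hle : W' ≤ W) (hc : IsCompact (W' : Set X)) :
    AmpleOn L W' := by
  haveI := compactSpace_of_isCompact hc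
  have := isAmple_pullback_of_isInducing (X.homOfLE hle) (X.homOfLE hle).isOpenEmbedding.isInducing
    ((isAmple_restrict_iff_pullback W.ι).mp h)
  rw [isAmple_pullback_comp_iff, isAmple_pullback_congr (X.homOfLE_ι hle)] at this
  exact (isAmple_restrict_iff_pullback W'.ι).mpr this

theorem ampleOn_restrict_iff (U : X.Opens) (W : (U : Scheme.{u}).Opens) :
    AmpleOn (L.restrict U.ι) W ↔ AmpleOn L (U.ι ''ᵁ W) := by
  rw [AmpleOn, AmpleOn, isAmple_restrict_iff_pullback, isAmple_iso_iff ((Scheme.Modules.pullback W.ι).mapIso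
    ((Scheme.Modules.restrictFunctorIsoPullback U.ι).app L)), isAmple_pullback_comp_iff,
    isAmple_restrict_iff_pullback, ← isAmple_pullback_iso_iff (L := (Scheme.Modules.pullback (U.ι ''ᵁ W).ι).obj L)
      (U.ι.isoImage W).hom, isAmple_pullback_comp_iff,
    isAmple_pullback_congr (Scheme.Hom.isoImage_hom_ι U.ι W)]

theorem isInvertible_of_restrict {ι : Type*} (U : ι → X.Opens) (hU : ⊤ ≤ ⨆ i, U i)
    (h : ∀ i, PicF.IsInvertible (L.restrict (U i).ι)) : PicF.IsInvertible L := fun x => by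
  obtain ⟨i, hi⟩ := Opens.mem_iSup.mp (hU (trivial : x ∈ (⊤ : X.Opens)))
  obtain ⟨W, hW, ⟨e⟩⟩ := h i ⟨x, hi⟩
  refine ⟨(U i).ι ''ᵁ W, ⟨⟨x, hi⟩, hW, rfl⟩, ?_⟩
  let j := ((U i).ι.isoImage W).inv
  exact ⟨(M1.restrictRestrictIso L ((U i).ι) (j ≫ W.ι) _
      (by simp [j, Scheme.Hom.isoImage_inv_ι])).symm ≪≫
    (M1.restrictRestrictIso (L.restrict (U i).ι) W.ι j _ rfl).symm ≪≫
    (Scheme.Modules.restrictFunctor j).mapIso e ≪≫ Scheme.Modules.restrictUnitIso j⟩

/-- A germ generates iff the section generates near the point. -/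
theorem gen_iff_exists_isGenerator (hM : PicF.IsInvertible M) {W : X.Opens} {x : X} (hx : x ∈ W) (t : Γ(M, W)) :
    Gen (gm M x hx t) ↔ ∃ (U : X.Opens) (h : U ≤ W), x ∈ U ∧ IsGenerator (res M h t) := by
  constructor
  · intro h
    obtain ⟨U, e, hxU, hUW, -, he⟩ := exists_isGenerator hM (V := W) hx
    obtain ⟨a, ha⟩ := exists_coeff he (res M hUW t)
    have hu : IsUnit (X.presheaf.germ U x hxU a) := by
      refine ((gen_of_isGenerator he hxU).ne_zero_smul _).mp ?_
      rw [← gm_smul, ha, gm_res]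
      exact h
    refine ⟨X.basicOpen a, (X.basicOpen_le a).trans hUW, (Scheme.mem_basicOpen X a x hxU).mpr hu, fun V hV => ?_⟩
    have hVU : V ≤ U := hV.trans (X.basicOpen_le a)
    have hua : IsUnit (X.presheaf.map (homOfLE hVU).op a) := by
      have h1 := (X.toRingedSpace.isUnit_res_basicOpen a).map (X.presheaf.map (homOfLE hV).op).hom
      rw [show X.presheaf.map (homOfLE hVU).op a =
        X.presheaf.map (homOfLE hV).op (X.presheaf.map (homOfLE (X.basicOpen_le a)).op a) from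
        (M1.ores_ores (X.basicOpen_le a) hV a).symm]
      exact h1
    have e1 : (fun r : Γ(X, V) => r • res M hV (res M ((X.basicOpen_le a).trans hUW) t)) =
        (fun r : Γ(X, V) => r • res M hVU e) ∘ fun r => r * X.presheaf.map (homOfLE hVU).op a := funext fun r => by
      change r • _ = (r * _) • res M hVU e
      rw [res_res, ← res_res hUW hVU, ← ha, res_smul, mul_smul]
    rw [e1]
    exact (he V hVU).comp (Units.mulRight hua.unit).bijective
  · rintro ⟨U, h, hxU, hg⟩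
    have := gen_of_isGenerator hg hxU
    rwa [gm_res] at this

/-- A section of a restriction, seen on the ambient scheme. -/
theorem exists_sec_of_restrict (hM : PicF.IsInvertible M) (W : X.Opens)
    (s : Coh.structureModule (W : Scheme.{u}) ⟶ M.restrict W.ι) :
    ∃ t : Γ(M, W), ∀ y : W, y ∈ CohB1.genLocus (M.restrict W.ι) s ↔ Gen (gm M y.1 y.2 t) := by
  let t₀ : Γ(M, W.ι ''ᵁ ⊤) := (M.restrictAppIso W.ι ⊤).hom (gval s)
  refine ⟨res M (M1.image_ι_top W).ge t₀, fun y => ?_⟩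
  have key : ∀ (V : (W : Scheme.{u}).Opens) (hV : W.ι ''ᵁ V ≤ W) (r : Γ((W : Scheme.{u}), V)),
      (M.restrictAppIso W.ι V).hom (s.app V r) =
        (show Γ(X, W.ι ''ᵁ V) from r) • res M hV (res M (M1.image_ι_top W).ge t₀) := by
    intro V hV r
    conv_lhs => rw [← secHom_gval s, Twist.secHom_app]
    refine (M1.restrict_ι_smul M (show Γ(X, W.ι ''ᵁ V) from r) _).trans ?_
    rw [res_res]
    congr 1
  rw [gen_iff_exists_isGenerator hM]
  constructor
  · intro h
    obtain ⟨U, hyU, hU⟩ := Twist.exists_of_mem_genLocus h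
    rw [Twist.isIso_restrict_map_iff] at hU
    refine ⟨W.ι ''ᵁ U, W.ι_image_le U, ⟨y, hyU, rfl⟩, fun V hV => ?_⟩
    obtain ⟨V, rfl⟩ : ∃ V', V = W.ι ''ᵁ V' := ⟨W.ι ⁻¹ᵁ V, by
      rw [Scheme.Hom.image_preimage_eq_opensRange_inf, Scheme.Opens.opensRange_ι]
      exact (inf_eq_right.mpr (hV.trans (W.ι_image_le U))).symm⟩
    have e : (fun r : Γ(X, W.ι ''ᵁ V) => r • res M hV (res M (W.ι_image_le U) (res M (M1.image_ι_top W).ge t₀))) =
        fun r : Γ((W : Scheme.{u}), V) => (M.restrictAppIso W.ι V).hom (s.app V r) := funext fun r => by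
      rw [key V (hV.trans (W.ι_image_le U)), res_res (W.ι_image_le U) hV]
    rw [e]
    exact (ConcreteCategory.bijective_of_isIso (M.restrictAppIso W.ι V).hom).comp
      (hU V fun z hz => by simpa using hV ⟨z, hz, rfl⟩)
  · rintro ⟨U, hUW, hyU, hg⟩
    refine Twist.le_genLocus (U := W.ι ⁻¹ᵁ U) ((Twist.isIso_restrict_map_iff _ _).mpr fun V hV => ?_) hyU
    have hVU : W.ι ''ᵁ V ≤ U := by rintro _ ⟨z, hz, rfl⟩; exact hV hz
    refine (Function.Bijective.of_comp_iff' (ConcreteCategory.bijective_of_isIso (M.restrictAppIso W.ι V).hom) _).mp ?_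
    have e : ((M.restrictAppIso W.ι V).hom ∘ fun r => s.app V r) =
        fun r : Γ(X, W.ι ''ᵁ V) => r • res M hVU (res M hUW (res M (M1.image_ι_top W).ge t₀)) := funext fun r => by
      rw [Function.comp_apply, key V (hVU.trans hUW), res_res hUW hVU]
    rw [show ⇑(s.app V) = fun r => s.app V r from rfl, e]
    exact hg _ hVU

/-- Loci of powers on a basic open of a global function extend. -/
theorem exists_hasSec_of_ampleOn [CompactSpace X] [QuasiSeparatedSpace X] (hL : PicF.IsInvertible L)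
    (g : Γ(X, ⊤)) (h : AmpleOn L (X.basicOpen g)) {x : X} (hx : x ∈ X.basicOpen g) :
    ∃ (n : ℕ) (G : X.Opens), HasSec L (n + 1) G ∧ x ∈ G ∧ IsAffineOpen G := by
  obtain ⟨n, G', ⟨s', hs'⟩, hxG, hA⟩ := (isAmple_iff.mp h).2.2 ⟨x, hx⟩
  let D := X.basicOpen g
  let M := CohB1.tensorPow L (n + 1)
  have hM : PicF.IsInvertible M := isInvertible_tensorPow hL _
  let s : Coh.structureModule (D : Scheme.{u}) ⟶ M.restrict D.ι :=
    s' ≫ (M2.restrictTensorPowIso D.ι L (n + 1)).symm.hom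
  obtain ⟨t, ht⟩ := exists_sec_of_restrict hM D s
  have hs : CohB1.genLocus _ s = G' := (genLocus_comp_iso _ _).trans hs'
  haveI := M2.isQCoh_of_isFinLocFree (M2.isFinLocFree_of_isInvertible hM)
  obtain ⟨k, t', ht'⟩ := M1.locSurj_of_isCompact M g (U := ⊤) isCompact_univ
    (res M (inf_le_right : ⊤ ⊓ D ≤ D) t)
  have hloc : CohB1.genLocus M (M1.secHom (g • t')) = D.ι ''ᵁ G' := genLocus_eq_of_forall hM _ _ fun z => by
    rw [gval_secHom, gm_smul, gen_smul_iff hM]
    have hkey : ∀ hz : z ∈ D, (Gen (gm M z (U := ⊤) trivial t') ↔ (⟨z, hz⟩ : D) ∈ G') := fun hz => by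
      rw [← hs, ht ⟨z, hz⟩]
      have hu : IsUnit (X.presheaf.germ ⊤ z trivial g) := (Scheme.mem_basicOpen X g z trivial).mp hz
      have := congrArg (gm M z (U := ⊤ ⊓ D) ⟨trivial, hz⟩) ht'
      rw [gm_smul, gm_res, gm_res] at this
      rw [this, gen_smul_iff hM]
      refine and_iff_right ?_
      rw [map_pow, TopCat.Presheaf.germ_res_apply]
      exact hu.pow k
    constructor
    · rintro ⟨hu, hg⟩
      have hz : z ∈ D := (Scheme.mem_basicOpen X g z trivial).mpr hu
      exact ⟨⟨z, hz⟩, (hkey hz).mp hg, rfl⟩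
    · rintro ⟨y, hy, rfl⟩
      exact ⟨(Scheme.mem_basicOpen X g _ trivial).mp y.2, (hkey y.2).mpr hy⟩
  exact ⟨n, D.ι ''ᵁ G', ⟨M1.secHom (g • t'), hloc⟩, ⟨⟨x, hx⟩, hxG, rfl⟩, hA.image_of_isOpenImmersion _⟩

/-- Quasi-separatedness from quasi-separated opens meeting affines of each other compactly. -/
theorem quasiSeparatedSpace_of_cover {ι : Type*} (W : ι → X.Opens) (hW : ⊤ ≤ ⨆ i, W i)
    (hqs : ∀ i, QuasiSeparatedSpace (W i : Scheme.{u}))
    (h : ∀ i (U : X.Opens) j, IsAffineOpen U → U ≤ W i → IsCompact ((U ⊓ W j : X.Opens) : Set X)) :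
    QuasiSeparatedSpace X := by
  have hc : ∀ x : X, ∃ (U : X.Opens) (i : ι), x ∈ U ∧ IsAffineOpen U ∧ U ≤ W i := fun x => by
    obtain ⟨i, hi⟩ := Opens.mem_iSup.mp (hW (trivial : x ∈ (⊤ : X.Opens)))
    obtain ⟨U, hU, hxU, hUW⟩ := exists_isAffineOpen_mem_and_subset (U := W i) hi
    exact ⟨U, i, hxU, hU, hUW⟩
  choose U i hxU hU hUW using hc
  refine Scheme.quasiSeparatedSpace_of_isOpenCover U
    (top_le_iff.mp fun x _ => Opens.mem_iSup.mpr ⟨x, hxU x⟩) hU fun x y => ?_
  have h1 := h (i x) (U x) (i y) (hU x) (hUW x)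
  have he : IsQuasiSeparated (W (i y) : Set X) :=
    (isQuasiSeparated_iff_quasiSeparatedSpace _ (W (i y)).isOpen).mpr (hqs (i y))
  have := he _ _ (Set.inter_subset_right : (U x : Set X) ∩ W (i y) ⊆ W (i y)) ((U x).isOpen.inter (W (i y)).isOpen) h1
    (hUW y) (U y).isOpen (hU y).isCompact
  rwa [Set.inter_assoc, Set.inter_eq_right.mpr (hUW y : (U y : Set X) ⊆ W (i y))] at this

theorem isCompact_inf_basicOpen {U : X.Opens} (hU : IsAffineOpen U) (g : Γ(X, ⊤)) :
    IsCompact ((U ⊓ X.basicOpen g : X.Opens) : Set X) := by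
  rw [← Scheme.basicOpen_res X g (homOfLE (le_top : U ≤ ⊤)).op]
  exact (hU.basicOpen _).isCompact

/-- Ampleness is local over a cover by basic opens of global functions. -/
theorem isAmple_of_basicOpen_cover [CompactSpace X] {ι : Type*} (g : ι → Γ(X, ⊤))
    (hg : ⊤ ≤ ⨆ i, X.basicOpen (g i)) (h : ∀ i, AmpleOn L (X.basicOpen (g i))) : CohB1.IsAmple L := by
  have hL : PicF.IsInvertible L := isInvertible_of_restrict _ hg fun i => (h i).1
  haveI : QuasiSeparatedSpace X := quasiSeparatedSpace_of_cover _ hg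
    (fun i => quasiSeparatedSpace_of_isAmple (h i)) fun _ U j hU _ => isCompact_inf_basicOpen hU (g j)
  refine isAmple_iff.mpr ⟨hL, inferInstance, fun x => ?_⟩
  obtain ⟨i, hi⟩ := Opens.mem_iSup.mp (hg (trivial : x ∈ (⊤ : X.Opens)))
  exact exists_hasSec_of_ampleOn hL (g i) (h i) hi

section Rel

variable {S : Scheme.{u}} (f : X ⟶ S)

theorem isRelAmple_def [QuasiCompact f] :
    RelAmple.IsRelAmple f L ↔ ∀ V : S.Opens, IsAffineOpen V → AmpleOn L (f ⁻¹ᵁ V) :=
  ⟨fun h V hV => h.2 ⟨V, hV⟩, fun h => ⟨inferInstance, fun V => h V.1 V.2⟩⟩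

theorem isCompact_preimage [QuasiCompact f] {V : S.Opens} (hV : IsAffineOpen V) :
    IsCompact ((f ⁻¹ᵁ V : X.Opens) : Set X) :=
  f.isCompact_preimage hV.isCompact

/-- Relative ampleness over an affine open from a cover by basic opens. -/
theorem ampleOn_preimage_of_cover [QuasiCompact f] {V : S.Opens} (hV : IsAffineOpen V)
    (h : ∀ y ∈ V, ∃ r : Γ(S, V), y ∈ S.basicOpen r ∧ AmpleOn L (f ⁻¹ᵁ S.basicOpen r)) :
    AmpleOn L (f ⁻¹ᵁ V) := by
  choose r hr hA using h
  let W := f ⁻¹ᵁ V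
  haveI := compactSpace_of_isCompact (isCompact_preimage f hV)
  let g : V → Γ((W : Scheme.{u}), ⊤) := fun y => W.topIso.inv (f.app V (r y.1 y.2))
  have hg : ∀ y, W.ι ''ᵁ (W : Scheme.{u}).basicOpen (g y) = f ⁻¹ᵁ S.basicOpen (r y.1 y.2) := fun y => by
    rw [Scheme.preimage_basicOpen, Scheme.image_basicOpen, Scheme.Opens.ι_appIso]
    simp only [g, Scheme.Opens.topIso_inv, Iso.refl_inv]
    refine (Scheme.basicOpen_res X _ _).trans ?_
    rw [M1.image_ι_top]
    exact inf_eq_right.mpr (X.basicOpen_le _)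
  refine isAmple_of_basicOpen_cover g (fun z _ => ?_) fun y => ?_
  · refine Opens.mem_iSup.mpr ⟨⟨f z.1, z.2⟩, ?_⟩
    have hz : z.1 ∈ f ⁻¹ᵁ S.basicOpen (r (f z.1) z.2) := hr (f z.1) z.2
    rw [← hg ⟨f z.1, z.2⟩] at hz
    obtain ⟨z', hz', e⟩ := hz
    exact (W.ι.isOpenEmbedding.injective e) ▸ hz'
  · rw [ampleOn_restrict_iff, hg]
    exact hA y.1 y.2

/-- Relative ampleness is local on the base. -/
theorem isRelAmple_of_local [QuasiCompact f]
    (h : ∀ y : S, ∃ V : S.Opens, IsAffineOpen V ∧ y ∈ V ∧ AmpleOn L (f ⁻¹ᵁ V)) :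
    RelAmple.IsRelAmple f L := by
  refine (isRelAmple_def f).mpr fun V hV => ampleOn_preimage_of_cover f hV fun y hy => ?_
  obtain ⟨V', hV', hy', hA⟩ := h y
  obtain ⟨r, r', e, hr⟩ := exists_basicOpen_le_affine_inter hV hV' y ⟨hy, hy'⟩
  exact ⟨r, hr, hA.mono (f.preimage_mono (e ▸ S.basicOpen_le r')) (isCompact_preimage f (hV.basicOpen r))⟩

/-- Over an affine base relative ampleness is ampleness. -/
theorem isRelAmple_iff_isAmple [IsAffine S] [QuasiCompact f] : RelAmple.IsRelAmple f L ↔ CohB1.IsAmple L := by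
  rw [isRelAmple_def, isAmple_iff_ampleOn_top]
  exact ⟨fun h => h ⊤ (isAffineOpen_top S), fun h V hV => h.mono le_top (isCompact_preimage f hV)⟩

end Rel

end Groth.Agent.RA
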