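import Groth.Agent.Lib.RelAmple18.Generation
import Groth.Agent.Lib.RelAmple18.Ops
import Mathlib.AlgebraicGeometry.ResidueField
import Mathlib.AlgebraicGeometry.FunctionField

/-!
Sections generating at a point, from epimorphisms.
-/

universe u

open CategoryTheory Limits AlgebraicGeometry TopologicalSpace Opposite TensorProduct

set_option backward.isDefEq.respectTransparency false

namespace Groth.Agent.RA

open Groth.Agent.M2 (IsGenerator res pullSec)
open Groth.Agent.Amp

variable {X S : Scheme.{u}} {M L L' : X.Modules}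

theorem isField_stalk_of_subsingleton (K : Scheme.{u}) [IsIntegral K] [Subsingleton K] (y : K) :
    IsField (K.presheaf.stalk y) := by
  obtain rfl : y = genericPoint K := Subsingleton.elim _ _
  exact Field.toIsField K.functionField

/-- Over a point, the pullback of a section which does not generate there vanishes. -/
theorem pullSec_residue_eq_zero (hM : PicF.IsInvertible M) (x : X) {U : X.Opens} (t : Γ(M, U))
    (h : ∀ hx : x ∈ U, ¬ Gen (gm M x hx t)) : pullSec (X.fromSpecResidueField x) M t = 0 := by
  refine eq_of_gm fun y hy => ?_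
  have e : X.fromSpecResidueField x y = x := X.fromSpecResidueField_apply x y
  have hn : ¬ Gen (gm ((Scheme.Modules.pullback (X.fromSpecResidueField x)).obj M) y hy
      (pullSec (X.fromSpecResidueField x) M t)) := fun hg => by
    have key : ∀ (z : X) (hz : z ∈ U), z = x → Gen (gm M z hz t) → False := by
      rintro z hz rfl
      exact h hz
    exact key _ hy e ((gen_pullSec_iff (X.fromSpecResidueField x) hM hy t).mp hg)
  obtain ⟨g, hg⟩ := exists_stalk_gen (PicLoc.isInvertible_pullback (X.fromSpecResidueField x) hM) y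
  obtain ⟨c, hc⟩ := hg.2 (gm _ y hy (pullSec (X.fromSpecResidueField x) M t))
  simp only at hc
  rw [← hc, hg.ne_zero_smul] at hn
  haveI : IsIntegral (Spec (X.residueField x)) := inferInstance
  have hc0 : c = 0 := by
    by_contra hc0
    obtain ⟨d, hd⟩ := (isField_stalk_of_subsingleton (Spec (X.residueField x)) y).mul_inv_cancel hc0
    exact hn (IsUnit.of_mul_eq_one d hd)
  rw [← hc, hc0, zero_smul]
  exact (map_zero _).symm

/-- The unit of pullback to a point does not vanish on an invertible module. -/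
theorem unit_residue_ne_zero (hM : PicF.IsInvertible M) (x : X) :
    (Scheme.Modules.pullbackPushforwardAdjunction (X.fromSpecResidueField x)).unit.app M ≠ 0 := fun h0 => by
  obtain ⟨U, e, hxU, -, -, he⟩ := exists_isGenerator hM (V := ⊤) (x := x) trivial
  let y : Spec (X.residueField x) := default
  have hy : X.fromSpecResidueField x y ∈ U := by rw [X.fromSpecResidueField_apply x y]; exact hxU
  have hg : Gen (gm M _ hy e) := gen_of_isGenerator he hy
  rw [← gen_pullSec_iff (X.fromSpecResidueField x) hM hy] at hg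
  have hz : pullSec (X.fromSpecResidueField x) M e = 0 := by
    change ((Scheme.Modules.pullbackPushforwardAdjunction (X.fromSpecResidueField x)).unit.app M).app U e = 0
    rw [h0]; rfl
  rw [hz] at hg
  exact not_gen_zero (PicLoc.isInvertible_pullback (X.fromSpecResidueField x) hM) y
    (by rwa [show gm _ y hy (0 : Γ((Scheme.Modules.pullback (X.fromSpecResidueField x)).obj M, _)) = 0 from map_zero _] at hg)

/-- A globally generated invertible module has at each point a generating section. -/
theorem exists_gen_of_isGloballyGenerated (hM : PicF.IsInvertible M) (h : Curv2.IsGloballyGenerated M) (x : X) :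
    ∃ t : Coh.structureModule X ⟶ M, x ∈ CohB1.genLocus M t := by
  obtain ⟨ι, p, hp⟩ := h
  by_contra hc
  push Not at hc
  refine unit_residue_ne_zero hM x ((cancel_epi p).mp ?_)
  rw [comp_zero]
  refine M1.free_hom_ext fun i => ?_
  rw [comp_zero]
  change ((Scheme.Modules.pullbackPushforwardAdjunction (X.fromSpecResidueField x)).unit.app M).app ⊤
    ((M1.ιF i ≫ p).app ⊤ (M1.one ⊤)) = 0
  exact pullSec_residue_eq_zero hM x _ fun _ hg => hc _ ((mem_genLocus_iff hM _).mpr hg)

/-- An epimorphic counit gives local sections generating at each point. -/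
theorem exists_gen_of_epi_counit (f : X ⟶ S) (hM : PicF.IsInvertible M)
    [Epi ((Scheme.Modules.pullbackPushforwardAdjunction f).counit.app M)] (x : X) :
    ∃ (V : S.Opens) (t : Γ(M, f ⁻¹ᵁ V)) (hx : f x ∈ V), Gen (gm M x (U := f ⁻¹ᵁ V) hx t) := by
  by_contra hc
  push Not at hc
  let ε := (Scheme.Modules.pullbackPushforwardAdjunction f).counit.app M
  let η := (Scheme.Modules.pullbackPushforwardAdjunction (X.fromSpecResidueField x)).unit.app M
  refine unit_residue_ne_zero hM x ((cancel_epi ε).mp ?_)
  rw [comp_zero]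
  apply ((Scheme.Modules.pullbackPushforwardAdjunction f).homEquiv _ _).injective
  simp only [Adjunction.homEquiv_unit, Functor.map_zero, comp_zero, Functor.map_comp,
    Adjunction.right_triangle_components_assoc, ε]
  refine Scheme.Modules.hom_ext _ _ fun V => ?_
  ext t
  exact pullSec_residue_eq_zero hM x (U := f ⁻¹ᵁ V) t fun hx => hc V t hx

/-- A section over a basic open generating at a point extends to one generating there. -/
theorem exists_gen_extend [CompactSpace X] [QuasiSeparatedSpace X] (hM : PicF.IsInvertible M) (g : Γ(X, ⊤))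
    {U : X.Opens} (hU : X.basicOpen g ≤ U) (t : Γ(M, U)) {x : X} (hx : x ∈ X.basicOpen g)
    (ht : Gen (gm M x (hU hx) t)) : ∃ s : Coh.structureModule X ⟶ M, x ∈ CohB1.genLocus M s := by
  haveI := M2.isQCoh_of_isFinLocFree (M2.isFinLocFree_of_isInvertible hM)
  obtain ⟨k, t', ht'⟩ := M1.locSurj_of_isCompact M g (U := ⊤) isCompact_univ
    (res M (inf_le_right.trans hU : ⊤ ⊓ X.basicOpen g ≤ U) t)
  refine ⟨M1.secHom t', ?_⟩
  rw [mem_genLocus_iff hM, gval_secHom]
  have := congrArg (gm M x (U := ⊤ ⊓ X.basicOpen g) ⟨trivial, hx⟩) ht'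
  rw [gm_smul, gm_res, gm_res] at this
  rw [this, gen_smul_iff hM]
  refine ⟨?_, ht⟩
  rw [map_pow, TopCat.Presheaf.germ_res_apply]
  exact ((Scheme.mem_basicOpen X g x trivial).mp hx).pow k

/-- Tensoring with a module having a power generated relative to the base. -/
theorem isRelAmple_tensor_of_epi_counit (f : X ⟶ S) [QuasiCompact f] (hL : RelAmple.IsRelAmple f L)
    (hL' : PicF.IsInvertible L') (n : ℕ)
    [Epi ((Scheme.Modules.pullbackPushforwardAdjunction f).counit.app (CohB1.tensorPow L' (n + 1)))] :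
    RelAmple.IsRelAmple f (CohB1.tensorMod L L') := by
  refine (isRelAmple_def f).mpr fun V hV => ?_
  have hA : AmpleOn L (f ⁻¹ᵁ V) := hL.2 ⟨V, hV⟩
  haveI := hA.2.1
  haveI := quasiSeparatedSpace_of_isAmple hA
  rw [AmpleOn, isAmple_iso_iff (M2.restrictTensorIso (f ⁻¹ᵁ V).ι L L')]
  refine isAmple_tensor (M2.isInvertible_restrict hL' _) hA fun z => ?_
  let P := f ⁻¹ᵁ V
  let M := CohB1.tensorPow L' (n + 1)
  have hM : PicF.IsInvertible M := isInvertible_tensorPow hL' _
  obtain ⟨V', t, hx, ht⟩ := exists_gen_of_epi_counit f hM z.1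
  obtain ⟨r, hr, hzr⟩ := hV.exists_basicOpen_le (V := V') ⟨f z.1, hx⟩ z.2
  let g : Γ((P : Scheme.{u}), ⊤) := P.topIso.inv (f.app V r)
  have hg : (P : Scheme.{u}).basicOpen g = P.ι ⁻¹ᵁ (f ⁻¹ᵁ S.basicOpen r) := by
    have h1 : P.ι ''ᵁ (P : Scheme.{u}).basicOpen g = f ⁻¹ᵁ S.basicOpen r := by
      rw [Scheme.preimage_basicOpen, Scheme.image_basicOpen, Scheme.Opens.ι_appIso]
      simp only [g, Scheme.Opens.topIso_inv, Iso.refl_inv]
      refine (Scheme.basicOpen_res X _ _).trans ?_
      rw [M1.image_ι_top]
      exact inf_eq_right.mpr (X.basicOpen_le _)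
    rw [← h1, Scheme.Hom.preimage_image_eq]
  obtain ⟨s, hs⟩ := exists_gen_extend (X := (P : Scheme.{u})) (PicLoc.isInvertible_pullback P.ι hM) g
    (U := P.ι ⁻¹ᵁ (f ⁻¹ᵁ V')) (hg.le.trans (P.ι.preimage_mono (f.preimage_mono hr))) (pullSec P.ι M t)
    (x := z) (hg.ge hzr) ((gen_pullSec_iff P.ι hM _ t).mpr ht)
  exact ⟨n, _, hasSec_of_iso (M2.pullTensorPowIso P.ι L' (n + 1) ≪≫
    M2.tensorPowIso ((Scheme.Modules.restrictFunctorIsoPullback P.ι).app L').symm (n + 1)) s, hs⟩

end Groth.Agent.RA
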