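import Groth.Agent.Lib.RelAmple18.Ops
import Mathlib.AlgebraicGeometry.Morphisms.UniversallyClosed
import Mathlib.AlgebraicGeometry.Morphisms.ClosedImmersion

/-!
Loci of sections of ample modules on universally closed schemes are affine.
-/

universe u

open CategoryTheory Limits AlgebraicGeometry TopologicalSpace Opposite

set_option backward.isDefEq.respectTransparency false

namespace Groth.Agent.RA

open Groth.Agent.M2 (res)
open Groth.Agent.Amp

variable {P V : Scheme.{u}} {L : P.Modules}

/-- The two ratios of two sections are inverse on the overlap. -/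
theorem exists_ratio_mul_eq_one {M : P.Modules} (hM : PicF.IsInvertible M) (s t : Coh.structureModule P ⟶ M) :
    ∃ (h : Γ(P, CohB1.genLocus M s)) (h' : Γ(P, CohB1.genLocus M t)),
      P.basicOpen h' = CohB1.genLocus M s ⊓ CohB1.genLocus M t ∧
      P.presheaf.map (homOfLE (inf_le_left : CohB1.genLocus M s ⊓ CohB1.genLocus M t ≤ _)).op h *
        P.presheaf.map (homOfLE (inf_le_right : CohB1.genLocus M s ⊓ CohB1.genLocus M t ≤ _)).op h' = 1 := by
  obtain ⟨h, hh, -⟩ := exists_ratio hM s t
  obtain ⟨h', hh', hD⟩ := exists_ratio hM t s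
  refine ⟨h, h', hD.symm, ?_⟩
  refine (isGenerator_genLocus hM t (CohB1.genLocus M s ⊓ CohB1.genLocus M t) inf_le_right).1 ?_
  change (_ * _) • res M inf_le_right (res M le_top (gval t)) = (1 : Γ(P, _)) • _
  rw [one_smul, mul_smul, ← res_smul, hh', res_res, ← res_res (le_top : CohB1.genLocus M s ≤ ⊤)
    (inf_le_left : CohB1.genLocus M s ⊓ CohB1.genLocus M t ≤ _) (gval s), ← res_smul, hh, res_res, res_res]

theorem basicOpen_mul_eq_top {U : P.Opens} {a b : Γ(P, U)} {z : P} (hz : z ∈ U)
    (hab : IsUnit (P.presheaf.germ U z hz (a * b))) : z ∈ P.basicOpen b := by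
  rw [Scheme.mem_basicOpen P b z hz]
  rw [map_mul, IsUnit.mul_iff] at hab
  exact hab.2

/-- Universally closed over an affine with ample `L`: loci of sections are affine. -/
theorem isAffineOpen_genLocus_of_universallyClosed [IsAffine V] (π : P ⟶ V) [UniversallyClosed π]
    (hL : CohB1.IsAmple L) (s : Coh.structureModule P ⟶ L) : IsAffineOpen (CohB1.genLocus L s) := by
  obtain ⟨hLi, hP, hc⟩ := isAmple_iff.mp hL
  haveI := hP
  let G := CohB1.genLocus L s
  have hGc : IsCompact (G : Set P) := by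
    choose n H hH hxH hA using hc
    obtain ⟨T, hT⟩ := isCompact_univ.elim_finite_subcover (fun x => (H x : Set P)) (fun x => (H x).isOpen)
      (fun x _ => Set.mem_iUnion.mpr ⟨x, hxH x⟩)
    have : (G : Set P) = ⋃ x ∈ T, ((G ⊓ H x : P.Opens) : Set P) := by
      ext z
      simp only [Set.mem_iUnion, Opens.coe_inf, Set.mem_inter_iff, exists_prop]
      refine ⟨fun hz => ?_, fun ⟨_, _, hz, _⟩ => hz⟩
      obtain ⟨x, hx, hzx⟩ := Set.mem_iUnion₂.mp (hT (Set.mem_univ z))
      exact ⟨x, hx, hz, hzx⟩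
    rw [this]
    exact T.isCompact_biUnion fun x _ => (isAffineOpen_inf_genLocus hLi s (hA x)).isCompact
  haveI := compactSpace_of_isCompact hGc
  haveI hQA : (G : Scheme.{u}).IsQuasiAffine := by
    refine isQuasiAffine_iff_isAmple.mpr (isAmple_of_iso (L := L.restrict G.ι) ?_ ?_)
    · have : IsIso ((Scheme.Modules.restrictFunctor G.ι).map s) := by
        rw [← secHom_gval s, Twist.isIso_restrict_secHom_iff]
        intro W hW
        have hg := isGenerator_genLocus hLi s W hW
        simp only [res_res] at hg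
        exact hg
      exact (asIso ((Scheme.Modules.restrictFunctor G.ι).map s)).symm ≪≫ Scheme.Modules.restrictUnitIso G.ι
    · exact (isAmple_restrict_iff_pullback G.ι).mpr
        (isAmple_pullback_of_isInducing G.ι G.ι.isOpenEmbedding.isInducing hL)
  let A := Spec Γ((G : Scheme.{u}), ⊤)
  let j : (G : Scheme.{u}) ⟶ A := (G : Scheme.{u}).toSpecΓ
  let q : A ⟶ V := Spec.map (G.ι ≫ π).appTop ≫ inv V.toSpecΓ
  haveI : IsSeparated q := inferInstance
  have hjq : j ≫ q = G.ι ≫ π := by
    rw [← Category.assoc, ← Scheme.toSpecΓ_naturality, Category.assoc, IsIso.hom_inv_id, Category.comp_id]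
  let p₁ := pullback.fst q π
  let p₂ := pullback.snd q π
  let γ : (G : Scheme.{u}) ⟶ pullback q π := pullback.lift j G.ι hjq
  haveI : UniversallyClosed p₁ := inferInstance
  -- on the preimage of `G` the graph is closed
  let T := p₂ ⁻¹ᵁ G
  let γ' : (G : Scheme.{u}) ⟶ (T : Scheme.{u}) := IsOpenImmersion.lift T.ι γ (by
    rintro _ ⟨z, rfl⟩
    rw [Scheme.Opens.range_ι]
    change (γ ≫ p₂) z ∈ G
    rw [pullback.lift_snd]
    exact z.2)
  have hγ' : γ' ≫ T.ι = γ := IsOpenImmersion.lift_fac _ _ _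
  have hsec : γ' ≫ p₂ ∣_ G = 𝟙 _ := by
    rw [← cancel_mono G.ι, Category.assoc, morphismRestrict_ι, ← Category.assoc, hγ', pullback.lift_snd, Category.id_comp]
  haveI : IsSeparated (p₂ ∣_ G) := inferInstance
  haveI : IsClosedImmersion (γ' ≫ p₂ ∣_ G) := by rw [hsec]; infer_instance
  haveI : IsClosedImmersion γ' := IsClosedImmersion.of_comp γ' (p₂ ∣_ G)
  -- the closure stays over `G`
  have hcl : closure (Set.range γ) ⊆ (T : Set (pullback q π : Scheme.{u})) := fun z hz => by
    obtain ⟨d, H, ⟨t, rfl⟩, hzH, -⟩ := hc (p₂ z)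
    let M := CohB1.tensorPow L (d + 1)
    let σ := SecTwist.powHom s (d + 1)
    have hσ : CohB1.genLocus M σ = G := genLocus_powHom hLi s d
    obtain ⟨h, h', hD, hhh'⟩ := exists_ratio_mul_eq_one (isInvertible_tensorPow hLi (d + 1)) σ t
    let U := p₂ ⁻¹ᵁ CohB1.genLocus M t
    have hσ' : G.ι ''ᵁ ⊤ = CohB1.genLocus M σ := (M1.image_ι_top G).trans hσ.symm
    let hG : Γ((G : Scheme.{u}), ⊤) := P.presheaf.map (eqToHom hσ').op h
    let a : Γ(A, ⊤) := (Scheme.ΓSpecIso Γ((G : Scheme.{u}), ⊤)).inv hG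
    let aU : Γ(pullback q π, U) := (pullback q π).presheaf.map (homOfLE (le_top : U ≤ ⊤)).op (p₁.appTop a)
    let bU : Γ(pullback q π, U) := p₂.app _ h'
    let r : Γ(pullback q π, U) := aU * bU - 1
    have hr0 : γ.app U r = 0 := by
      simp only [r, map_sub, map_mul, map_one]
      have ea : γ.app U aU = (G : Scheme.{u}).presheaf.map (homOfLE (le_top : γ ⁻¹ᵁ U ≤ ⊤)).op hG := by
        have e1 : γ.appTop (p₁.appTop a) = hG := by
          rw [← CommRingCat.comp_apply, ← Scheme.Hom.comp_appTop, pullback.lift_fst]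
          change j.appTop a = hG
          rw [Scheme.toSpecΓ_appTop]
          exact (Scheme.ΓSpecIso Γ((G : Scheme.{u}), ⊤)).inv_hom_id_apply hG
        rw [← e1]
        exact (ConcreteCategory.congr_hom (γ.naturality (homOfLE (le_top : U ≤ ⊤)).op) (p₁.appTop a))
      have hle : γ ⁻¹ᵁ U ≤ G.ι ⁻¹ᵁ CohB1.genLocus M t := fun y hy => by
        have hy' : (γ ≫ p₂) y ∈ CohB1.genLocus M t := hy
        rwa [pullback.lift_snd] at hy'
      have eb : γ.app U bU = G.ι.appLE _ (γ ⁻¹ᵁ U) hle h' := by
        change (p₂.app _ ≫ γ.app U) h' = _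
        rw [← Scheme.Hom.comp_app]
        have e : ∀ (l : (G : Scheme.{u}) ⟶ P) (W : (G : Scheme.{u}).Opens) (e1 : W ≤ l ⁻¹ᵁ CohB1.genLocus M t)
            (e2 : W ≤ G.ι ⁻¹ᵁ CohB1.genLocus M t) , l = G.ι →
            l.appLE _ W e1 h' = G.ι.appLE _ W e2 h' := fun l W e1 e2 he => by subst he; rfl
        rw [Scheme.Hom.app_eq_appLE]
        exact e (γ ≫ p₂) _ _ _ (pullback.lift_snd _ _ _)
      rw [ea, eb, Scheme.Opens.ι_appLE]
      have hW : G.ι ''ᵁ (γ ⁻¹ᵁ U) ≤ CohB1.genLocus M σ ⊓ CohB1.genLocus M t := fun y hy => by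
        obtain ⟨y', hy', rfl⟩ := hy
        exact ⟨hσ.ge y'.2, hle hy'⟩
      have := congrArg (P.presheaf.map (homOfLE hW).op) hhh'
      rw [map_mul, map_one, ← CommRingCat.comp_apply, ← Functor.map_comp, ← CommRingCat.comp_apply, ← Functor.map_comp] at this
      refine sub_eq_zero.mpr (Eq.trans ?_ this)
      congr 1
      change (P.presheaf.map (eqToHom hσ').op ≫ P.presheaf.map _) h = _
      rw [← Functor.map_comp]
      rfl
    have hzr : z ∉ (pullback q π).basicOpen r := fun hzr => by
      obtain ⟨_, hy, y, rfl⟩ := mem_closure_iff.mp hz _ ((pullback q π).basicOpen r).isOpen hzr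
      have : y ∈ γ ⁻¹ᵁ (pullback q π).basicOpen r := hy
      rw [Scheme.preimage_basicOpen, hr0, Scheme.basicOpen_zero] at this
      exact this
    have hzU : z ∈ U := hzH
    have hu : IsUnit ((pullback q π).presheaf.germ U z hzU (aU * bU)) := by
      have h1 : (pullback q π).presheaf.germ U z hzU (aU * bU) =
          (pullback q π).presheaf.germ U z hzU r + 1 := by simp [r]
      rw [Scheme.mem_basicOpen _ r z hzU] at hzr
      rw [h1]
      have h2 : IsUnit (((pullback q π).presheaf.germ U z hzU r + 1) + -(pullback q π).presheaf.germ U z hzU r) := by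
        simp
      exact (IsLocalRing.isUnit_or_isUnit_of_isUnit_add h2).resolve_right fun h3 => hzr (by simpa using h3.neg)
    have hb : z ∈ (pullback q π).basicOpen bU := basicOpen_mul_eq_top hzU hu
    have hz' : z ∈ p₂ ⁻¹ᵁ P.basicOpen h' := by rw [Scheme.preimage_basicOpen]; exact hb
    exact hσ.le (hD.le hz').1
  -- hence the graph is closed
  have hclosed : IsClosed (Set.range γ) := by
    refine isClosed_of_closure_subset fun z hz => ?_
    let zT : T := ⟨z, hcl hz⟩
    have : zT ∈ closure (Set.range γ') := by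
      rw [mem_closure_iff]
      intro O hO hzO
      obtain ⟨O', hO', rfl⟩ := isOpen_induced_iff.mp hO
      obtain ⟨_, hw, y, rfl⟩ := mem_closure_iff.mp hz O' hO' hzO
      refine ⟨γ' y, ?_, y, rfl⟩
      change T.ι (γ' y) ∈ O'
      rw [← Scheme.Hom.comp_apply, hγ']
      exact hw
    rw [(γ'.isClosedEmbedding.isClosed_range).closure_eq] at this
    obtain ⟨y, hy⟩ := this
    exact ⟨y, by rw [← hγ']; exact congrArg T.ι hy⟩
  have hj : IsClosed (Set.range j) := by
    have : Set.range j = p₁ '' Set.range γ := by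
      rw [← Set.range_comp]
      change _ = Set.range (γ ≫ p₁)
      rw [pullback.lift_fst]
    rw [this]
    exact p₁.isClosedMap _ hclosed
  have htop : j.opensRange = ⊤ := by
    refine Opens.ext ?_
    change Set.range j = Set.univ
    rw [← hj.closure_eq]
    exact j.denseRange.closure_range
  haveI : IsIso j := isIso_of_isOpenImmersion_of_opensRange_eq_top j htop
  exact IsAffine.of_isIso j

end Groth.Agent.RA
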