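import Groth.Agent.Lib.RelAmple18.Generation
import Groth.Agent.Lib.RelAmple18.Ops
import Mathlib.AlgebraicGeometry.Morphisms.Immersion

/-!
Sections on a non-vanishing locus extended by twisting; twists by modules ample on the base; fibre products.
-/

universe u

open CategoryTheory Limits AlgebraicGeometry TopologicalSpace Opposite TensorProduct

set_option backward.isDefEq.respectTransparency false

namespace Groth.Agent.RA

open Groth.Agent.M2 (tsec IsGenerator res pullSec)
open Groth.Agent.Amp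

variable {X Y S : Scheme.{u}} {M N L E K : X.Modules}

/-- A locus inside a locus extends after twisting. -/
theorem exists_locus_extend [CompactSpace X] [QuasiSeparatedSpace X] (hM : PicF.IsInvertible M)
    (hE : PicF.IsInvertible E) (σ : Coh.structureModule X ⟶ M)
    (s' : Coh.structureModule (CohB1.genLocus M σ : Scheme.{u}) ⟶ E.restrict (CohB1.genLocus M σ).ι) :
    ∃ q₀ : ℕ, ∀ q, q₀ ≤ q → ∃ t : Coh.structureModule X ⟶ CohB1.tensorMod E (CohB1.tensorPow M q),
      CohB1.genLocus _ t = (CohB1.genLocus M σ).ι ''ᵁ CohB1.genLocus _ s' := by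
  let G := CohB1.genLocus M σ
  obtain ⟨t, ht⟩ := exists_sec_of_restrict hE G s'
  haveI := M2.isQCoh_of_isFinLocFree (M2.isFinLocFree_of_isInvertible hE)
  obtain ⟨q₀, hq⟩ := exists_extend_genLocus hM σ E t
  refine ⟨q₀ + 1, fun q hq' => ?_⟩
  obtain ⟨p, rfl⟩ := Nat.exists_eq_add_of_le (show 1 ≤ q by omega)
  obtain ⟨t', ht'⟩ := hq p (by omega)
  let i : CohB1.tensorMod (CohB1.tensorMod E (CohB1.tensorPow M p)) M ≅ CohB1.tensorMod E (CohB1.tensorPow M (1 + p)) :=
    M2.tensorAssoc _ _ _ ≪≫ M2.tensorIso (Iso.refl E) (eqToIso (by rw [Nat.add_comm 1 p]; rfl))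
  refine ⟨SecTwist.tmulHom (M1.secHom t') σ ≫ i.hom, ?_⟩
  have hEM := M2.isInvertible_tensor hE (isInvertible_tensorPow hM p)
  rw [genLocus_comp_iso, genLocus_tmulHom hEM hM]
  have key : ∀ (z : X) (hz : z ∈ G), z ∈ CohB1.genLocus _ (M1.secHom t') ↔ (⟨z, hz⟩ : G) ∈ CohB1.genLocus _ s' := by
    intro z hz
    rw [ht ⟨z, hz⟩, mem_genLocus_iff hEM, gval_secHom, ← gm_res (le_top : G ≤ ⊤) hz, ht',
      gen_tsec_iff hE (isInvertible_tensorPow hM p)]
    refine and_iff_left (gen_pw hM hz _ p ?_)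
    rw [gm_res]
    exact (mem_genLocus_iff hM σ).mp hz
  ext z
  constructor
  · rintro ⟨h1, h2⟩
    exact ⟨⟨z, h2⟩, (key z h2).mp h1, rfl⟩
  · rintro ⟨y, hy, rfl⟩
    exact ⟨(key y.1 y.2).mpr hy, y.2⟩

/-- Over a scheme covered by loci of invertible modules, with ample restrictions to the preimages. -/
theorem quasiSeparatedSpace_of_loci {ι : Type*} (M : ι → X.Modules) (hM : ∀ i, PicF.IsInvertible (M i))
    (σ : ∀ i, Coh.structureModule X ⟶ M i) (hc : ⊤ ≤ ⨆ i, CohB1.genLocus (M i) (σ i))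
    (hqs : ∀ i, QuasiSeparatedSpace (CohB1.genLocus (M i) (σ i) : Scheme.{u})) : QuasiSeparatedSpace X :=
  quasiSeparatedSpace_of_cover _ hc hqs fun _ U j hU _ => by
    rw [inf_comm]
    exact (isAffineOpen_inf_genLocus (hM j) (σ j) hU).isCompact

/-- Twisting by large powers of a module ample on the base. -/
theorem exists_isAmple_twist [CompactSpace X] (g : X ⟶ Y) [QuasiCompact g] (hL : RelAmple.IsRelAmple g L)
    {K : Y.Modules} (hK : CohB1.IsAmple K) :
    ∃ n₀ : ℕ, ∀ n, n₀ ≤ n →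
      CohB1.IsAmple (CohB1.tensorMod L ((Scheme.Modules.pullback g).obj (CohB1.tensorPow K n))) := by
  have hLi := isInvertible_of_isRelAmple g hL
  obtain ⟨hKi, -, hc⟩ := isAmple_iff.mp hK
  choose d G hG hyG hA using hc
  let K' := (Scheme.Modules.pullback g).obj K
  have hK' : PicF.IsInvertible K' := PicLoc.isInvertible_pullback g hKi
  choose σ hσ using fun y => (hG y).pullback g hKi
  have hamp : ∀ y, AmpleOn L (CohB1.genLocus _ (σ y)) := fun y => by
    rw [hσ y]; exact hL.2 ⟨G y, hA y⟩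
  haveI : QuasiSeparatedSpace X := quasiSeparatedSpace_of_loci _ (fun y => isInvertible_tensorPow hK' (d y + 1)) σ
    (fun x _ => Opens.mem_iSup.mpr ⟨g x, (hσ (g x)).ge (hyG (g x))⟩) fun y => quasiSeparatedSpace_of_isAmple (hamp y)
  have key : ∀ x : X, ∃ (W : X.Opens) (e₀ : ℕ), x ∈ W ∧ ∀ n, e₀ ≤ n →
      ∃ N, HasSec (CohB1.tensorMod L (CohB1.tensorPow K' n)) (N + 1) W ∧ IsAffineOpen W := fun x => by
    let y := g x
    have hx : x ∈ CohB1.genLocus _ (σ y) := (hσ y).ge (hyG y)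
    obtain ⟨m, G', ⟨s', hs'⟩, hxG', hA'⟩ := (isAmple_iff.mp (hamp y)).2.2 ⟨x, hx⟩
    obtain ⟨q₀, hq⟩ := exists_locus_extend (isInvertible_tensorPow hK' (d y + 1)) (isInvertible_tensorPow hLi (m + 1))
      (σ y) (s' ≫ (M2.restrictTensorPowIso _ L (m + 1)).symm.hom)
    obtain ⟨t, ht⟩ := hq q₀ le_rfl
    rw [genLocus_comp_iso, hs'] at ht
    let W := (CohB1.genLocus _ (σ y)).ι ''ᵁ G'
    let e₀ := (d y + 1) * q₀
    refine ⟨W, e₀, ⟨⟨x, hx⟩, hxG', rfl⟩, fun n hn => ?_⟩
    refine ⟨(m + 1) * (d y + 1) - 1, ?_, hA'.image_of_isOpenImmersion _⟩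
    obtain ⟨j, hj⟩ := Nat.exists_eq_add_of_le (show e₀ ≤ n * (m + 1) from hn.trans (Nat.le_mul_of_pos_right n m.succ_pos))
    have hD : W ≤ CohB1.genLocus _ (σ y) := (CohB1.genLocus _ (σ y)).ι_image_le G'
    let P := CohB1.tensorMod (CohB1.tensorPow L (m + 1)) (CohB1.tensorPow (CohB1.tensorPow K' (d y + 1)) q₀)
    have hP : PicF.IsInvertible P :=
      M2.isInvertible_tensor (isInvertible_tensorPow hLi _) (isInvertible_tensorPow (isInvertible_tensorPow hK' _) _)
    let u := SecTwist.powHom t (d y + 1)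
    let v := SecTwist.powHom (σ y) j
    have hloc : CohB1.genLocus _ (SecTwist.tmulHom u v) = W := by
      rw [genLocus_tmulHom (isInvertible_tensorPow hP _) (isInvertible_tensorPow (isInvertible_tensorPow hK' _) _),
        genLocus_powHom hP t (d y), ht]
      refine inf_eq_left.mpr fun z hz => ?_
      rw [mem_genLocus_iff (isInvertible_tensorPow (isInvertible_tensorPow hK' _) _), gval_powHom]
      exact gen_pw (isInvertible_tensorPow hK' _) (U := ⊤) trivial _ _
        ((mem_genLocus_iff (isInvertible_tensorPow hK' _) _).mp (hD hz))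
    have he : (d y + 1) * q₀ * (d y + 1) + (d y + 1) * j = n * ((m + 1) * (d y + 1)) := by
      rw [← Nat.mul_assoc, hj]; ring
    let i : CohB1.tensorMod (CohB1.tensorPow P (d y + 1)) (CohB1.tensorPow (CohB1.tensorPow K' (d y + 1)) j) ≅
        CohB1.tensorPow (CohB1.tensorMod L (CohB1.tensorPow K' n)) ((m + 1) * (d y + 1)) :=
      M2.tensorIso (M2.tensorPowIso (M2.tensorIso (Iso.refl _) (M2.tensorPowPow K' (d y + 1) q₀)) _ ≪≫
          M2.tensorPowMul _ _ _ ≪≫ M2.tensorIso (M2.tensorPowPow L _ _) (M2.tensorPowPow K' _ _))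
        (M2.tensorPowPow K' _ _) ≪≫ M2.tensorAssoc _ _ _ ≪≫
      M2.tensorIso (Iso.refl _) ((M2.tensorPowAdd K' _ _).symm ≪≫ eqToIso (by rw [he]) ≪≫
        (M2.tensorPowPow K' n _).symm) ≪≫ (M2.tensorPowMul L (CohB1.tensorPow K' n) _).symm
    exact HasSec.of_eq ⟨SecTwist.tmulHom u v ≫ i.hom, (genLocus_comp_iso _ _).trans hloc⟩
      (Nat.sub_add_cancel (Nat.mul_pos m.succ_pos (d y).succ_pos)).symm
  choose W e₀ hxW hW using key
  obtain ⟨T, hT⟩ := isCompact_univ.elim_finite_subcover (fun x => (W x : Set X)) (fun x => (W x).isOpen)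
    (fun x _ => Set.mem_iUnion.mpr ⟨x, hxW x⟩)
  refine ⟨T.sup e₀, fun n hn => isAmple_of_iso (M2.tensorIso (Iso.refl L) (M2.pullTensorPowIso g K n).symm) ?_⟩
  refine isAmple_iff.mpr ⟨M2.isInvertible_tensor hLi (isInvertible_tensorPow hK' n), inferInstance, fun x => ?_⟩
  obtain ⟨z, hz, hxz⟩ := Set.mem_iUnion₂.mp (hT (Set.mem_univ x))
  obtain ⟨N, hN, hA⟩ := hW z n ((Finset.le_sup hz).trans hn)
  exact ⟨N, _, hN, hxz, hA⟩

/-- A fibre product of affine schemes over a quasi-separated one is quasi-affine. -/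
theorem isQuasiAffine_pullback [QuasiSeparatedSpace S] [IsAffine X] [IsAffine Y] (f : X ⟶ S) (g : Y ⟶ S) :
    (pullback f g).IsQuasiAffine := by
  let h := terminal.from S
  haveI : QuasiSeparated h := (quasiSeparatedSpace_iff_quasiSeparated S).mp inferInstance
  haveI : QuasiCompact (pullback.diagonal h) := QuasiSeparated.quasiCompact_diagonal
  haveI : IsImmersion (pullback.mapDesc f g h) :=
    MorphismProperty.of_isPullback (P := @IsImmersion) (pullback_map_diagonal_isPullback f g h) inferInstance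
  haveI : QuasiCompact (pullback.mapDesc f g h) :=
    MorphismProperty.of_isPullback (P := @QuasiCompact) (pullback_map_diagonal_isPullback f g h) inferInstance
  exact Scheme.IsQuasiAffine.of_isImmersion (pullback.mapDesc f g h)

/-- The external product of ample modules is ample. -/
theorem isAmple_pullback_tensor [QuasiSeparatedSpace S] {Z : Scheme.{u}} (f : Y ⟶ S) (g : Z ⟶ S) {L : Y.Modules}
    {N : Z.Modules} (hL : CohB1.IsAmple L) (hN : CohB1.IsAmple N) :
    CohB1.IsAmple (CohB1.tensorMod ((Scheme.Modules.pullback (pullback.fst f g)).obj L)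
      ((Scheme.Modules.pullback (pullback.snd f g)).obj N)) := by
  obtain ⟨hLi, hY, hc⟩ := isAmple_iff.mp hL
  obtain ⟨hNi, hZ, hc'⟩ := isAmple_iff.mp hN
  haveI := hY
  haveI := hZ
  have hL' := PicLoc.isInvertible_pullback (pullback.fst f g) hLi
  have hN' := PicLoc.isInvertible_pullback (pullback.snd f g) hNi
  haveI : QuasiCompact g := quasiCompact_of_compactSpace g
  haveI : CompactSpace ↥(pullback f g) := QuasiCompact.compactSpace_of_compactSpace (pullback.fst f g)
  refine isAmple_of_quasiAffine_loci (M2.isInvertible_tensor hL' hN') fun x => ?_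
  obtain ⟨n, G, hG, hxG, hA⟩ := hc (pullback.fst f g x)
  obtain ⟨m, H, hH, hxH, hB⟩ := hc' (pullback.snd f g x)
  refine ⟨(n + 1) * (m + 1) - 1, _,
    (((hG.pullback _ hLi).powPow hL' m).tensor hL' hN' (((hH.pullback _ hNi).powPow hN' n).of_eq (Nat.mul_comm _ _))).of_eq
      (Nat.sub_add_cancel (Nat.mul_pos n.succ_pos m.succ_pos)).symm, ⟨hxG, hxH⟩, ?_⟩
  haveI : IsAffine (G : Scheme.{u}) := hA
  haveI : IsAffine (H : Scheme.{u}) := hB
  haveI := isQuasiAffine_pullback (G.ι ≫ f) (H.ι ≫ g)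
  let j := pullback.map (G.ι ≫ f) (H.ι ≫ g) f g G.ι H.ι (𝟙 S) (by simp) (by simp)
  haveI : IsOpenImmersion j := inferInstance
  have hj : j.opensRange = pullback.fst f g ⁻¹ᵁ G ⊓ pullback.snd f g ⁻¹ᵁ H := by
    ext1
    change Set.range j = _
    rw [Scheme.Pullback.range_map, Scheme.Opens.range_ι, Scheme.Opens.range_ι]
    rfl
  rw [← hj]
  exact Scheme.IsQuasiAffine.of_isAffineHom j.isoOpensRange.inv

end Groth.Agent.RA
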