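import Groth.Agent.Lib.RelAmple18.Ops

/-!
Ampleness on a disjoint union.
-/

universe u

open CategoryTheory Limits AlgebraicGeometry TopologicalSpace Opposite

set_option backward.isDefEq.respectTransparency false

namespace Groth.Agent.RA

open Groth.Agent.Amp

variable {X Y : Scheme.{u}} {L : X.Modules}

/-- An open with open complement is a basic open. -/
theorem exists_basicOpen_eq_of_isCompl {A B : X.Opens} (h : IsCompl A B) :
    ∃ g : Γ(X, ⊤), X.basicOpen g = A := by
  let U : Bool → X.Opens := fun b => cond b A B
  let sf : ∀ b, Γ(X, U b) := fun b => match b with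
    | true => 1
    | false => 0
  have hc : TopCat.Presheaf.IsCompatible X.presheaf U sf := by
    intro a b
    cases a <;> cases b
    · rfl
    · haveI : Subsingleton Γ(X, U false ⊓ U true) := by
        rw [show U false ⊓ U true = ⊥ from h.symm.inf_eq_bot]; infer_instance
      exact Subsingleton.elim _ _
    · haveI : Subsingleton Γ(X, U true ⊓ U false) := by
        rw [show U true ⊓ U false = ⊥ from h.inf_eq_bot]; infer_instance
      exact Subsingleton.elim _ _
    · rfl
  obtain ⟨g, hg, -⟩ := TopCat.Sheaf.existsUnique_gluing' X.sheaf U ⊤ (fun _ => homOfLE le_top)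
    (by rw [iSup_bool_eq]; exact h.sup_eq_top.ge) sf hc
  refine ⟨g, le_antisymm (fun x hx => ?_) fun x hx => ?_⟩
  · rcases (h.sup_eq_top.ge (trivial : x ∈ (⊤ : X.Opens))) with hA | hB
    · exact hA
    · have := (Scheme.mem_basicOpen X g x trivial).mp hx
      rw [← TopCat.Presheaf.germ_res_apply X.presheaf (homOfLE (le_top : U false ≤ ⊤)) x hB g] at this
      erw [hg false] at this
      rw [show sf false = 0 from rfl, map_zero] at this
      exact absurd this not_isUnit_zero
  · refine (Scheme.mem_basicOpen X g x trivial).mpr ?_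
    rw [← TopCat.Presheaf.germ_res_apply X.presheaf (homOfLE (le_top : U true ≤ ⊤)) x hx g]
    erw [hg true]
    rw [show sf true = 1 from rfl, map_one]
    exact isUnit_one

/-- Ampleness on two complementary opens. -/
theorem isAmple_of_isCompl [CompactSpace X] {A B : X.Opens} (h : IsCompl A B) (hA : AmpleOn L A)
    (hB : AmpleOn L B) : CohB1.IsAmple L := by
  obtain ⟨g, hg⟩ := exists_basicOpen_eq_of_isCompl h
  obtain ⟨g', hg'⟩ := exists_basicOpen_eq_of_isCompl h.symm
  refine isAmple_of_basicOpen_cover (fun b : Bool => cond b g g') ?_ fun b => ?_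
  · rw [iSup_bool_eq, cond_true, cond_false, hg, hg', h.sup_eq_top]
  · cases b
    · rw [cond_false, hg']; exact hB
    · rw [cond_true, hg]; exact hA

theorem ampleOn_pullback_openImmersion_iff (j : Y ⟶ X) [IsOpenImmersion j] (U : Y.Opens) :
    AmpleOn ((Scheme.Modules.pullback j).obj L) U ↔ AmpleOn L (j ''ᵁ U) := by
  rw [AmpleOn, AmpleOn, isAmple_restrict_iff_pullback, isAmple_pullback_comp_iff,
    isAmple_restrict_iff_pullback, ← isAmple_pullback_iso_iff (L := (Scheme.Modules.pullback (j ''ᵁ U).ι).obj L)
      (j.isoImage U).hom, isAmple_pullback_comp_iff,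
    isAmple_pullback_congr (Scheme.Hom.isoImage_hom_ι j U)]

end Groth.Agent.RA
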